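import Cfsg.Agent.M22Outer.Defs

/-!
# Finite checks for the outer involutions of a group of type M(22): Act2
-/

set_option autoImplicit false
set_option Elab.async false

namespace Cfsg.Agent.M22Outer

open Cfsg.Agent.CosetCert Cfsg.Agent.CosetCert.Fi22U62 Cfsg.Agent.Fi22Out Cfsg.Agent.M22Local
open Cfsg.Agent.M22PairAut (bet sgp)
open Cfsg.Agent.M22O8 (inU pv uc e8)

theorem fix2_act : (fix2.all fun p => fix2.all fun q => force (img [p.1] q.1) fun r =>
    fix2.any fun s => Nat.beq s.1 r && Nat.beq s.2.2 (cond (fix p.1 q.1) q.2.2 (xr q.2.2 p.2.2))) = true := by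
  decide +kernel

theorem fix2_pairs : (fix2.all fun p => fix2.all fun q => !(Nat.beq p.2.2 q.2.2) || Nat.beq q.1 p.1 ||
    Nat.beq q.1 p.2.1) = true := by decide +kernel

theorem six_ok : (six.all (fun p => fix2.any fun e => Nat.beq e.1 p) &&
    tree2.all (fun x => Nat.beq (img [x.2.2] x.2.1) x.1 && (six.any fun p => Nat.beq p x.2.2)) &&
    fix2.all (fun e => (six.any fun p => Nat.beq p e.1 || Nat.beq p e.2.1) ||
      tree2.any fun x => Nat.beq x.1 e.1 || Nat.beq x.1 e.2.1) &&
    fix2.all (fun e => !(Nat.beq e.1 e.2.1) && fix2.any fun f => Nat.beq f.1 e.2.1 && Nat.beq f.2.2 e.2.2))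
    = true := by decide +kernel

theorem flips_ok : (flips.all (fun z => z.all (fun q => fix2.any fun e => Nat.beq e.1 q) &&
      isOne (z ++ z) &&
      fix2.all fun e => force (img z e.1) fun r => Nat.beq r e.1 || Nat.beq r e.2.1) &&
    flips.all fun z => flips.all fun y => eqW (z ++ y) (y ++ z)) = true := by decide +kernel

theorem flip_pattern : ∀ b : Fin 6 → Bool, ∀ k : Fin 6,
    fix2.all (fun e => !(Nat.beq e.1 (six.getD k 0)) ||
      Nat.beq (img (flip b) e.1) (cond (b k) e.2.1 e.1)) = true := by decide +kernel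

end Cfsg.Agent.M22Outer
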