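import Cfsg.Agent.M22Outer.Defs

/-!
# Finite checks for the outer involutions of a group of type M(22): Cover21
-/

set_option autoImplicit false
set_option Elab.async false

namespace Cfsg.Agent.M22Outer

open Cfsg.Agent.CosetCert Cfsg.Agent.CosetCert.Fi22U62 Cfsg.Agent.Fi22Out Cfsg.Agent.M22Local
open Cfsg.Agent.M22PairAut (bet sgp)
open Cfsg.Agent.M22O8 (inU pv uc e8)

theorem fix2_cover10 : allFrom fix2P 1755 351 = true := by decide +kernel

theorem fix2_cover11 : allFrom fix2P 2106 351 = true := by decide +kernel

theorem fix2_cover12 : allFrom fix2P 2457 351 = true := by decide +kernel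

theorem fix2_cover13 : allFrom fix2P 2808 351 = true := by decide +kernel

theorem fix2_cover14 : allFrom fix2P 3159 351 = true := by decide +kernel

end Cfsg.Agent.M22Outer
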