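import Cfsg.Agent.M22Outer.Defs

/-!
# Finite checks for the outer involutions of a group of type M(22): Fix0
-/

set_option autoImplicit false
set_option Elab.async false

namespace Cfsg.Agent.M22Outer

open Cfsg.Agent.CosetCert Cfsg.Agent.CosetCert.Fi22U62 Cfsg.Agent.Fi22Out Cfsg.Agent.M22Local
open Cfsg.Agent.M22PairAut (bet sgp)
open Cfsg.Agent.M22O8 (inU pv uc e8)

theorem bet_invol : allFrom (fun x => Nat.beq (bet (sgp x)) (gp x) && Nat.blt (sgp x) 3510) 0 9 = true := by
  decide +kernel

theorem bet_ab : (Nat.beq (bet 0) 0 && Nat.beq (bet 6) 6 && Nat.beq (bet 43) 424 && fix 0 6) = true := by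
  decide +kernel

theorem uc_fixed : (uc.all fun u => Nat.beq (bet u.1) u.1) = true := by decide +kernel

end Cfsg.Agent.M22Outer
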