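import Cfsg.Agent.M22Outer.Defs

/-!
# Finite checks for the outer involutions of a group of type M(22): Fix1
-/

set_option autoImplicit false
set_option Elab.async false

namespace Cfsg.Agent.M22Outer

open Cfsg.Agent.CosetCert Cfsg.Agent.CosetCert.Fi22U62 Cfsg.Agent.Fi22Out Cfsg.Agent.M22Local
open Cfsg.Agent.M22PairAut (bet sgp)
open Cfsg.Agent.M22O8 (inU pv uc e8)

theorem fix1_ok : (fix1.all (fun q => Nat.blt q 3510 && Nat.beq (bet (img [0] q)) q && fix 0 q) &&
    fix1.all (fun p => Nat.beq p 0 || fix1.any fun q => !(fix p q))) = true := by decide +kernel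

theorem fix1_nodup : fix1.Nodup := by decide +kernel

theorem class_link : (pv.all (fun e => pv.any fun q => fix 0 q.1 && fix q.1 e.1) &&
    uc.all (fun u => !(Nat.beq u.2 0) || pv.any fun p => Nat.beq p.1 u.1)) = true := by decide +kernel

theorem class_sep : (pv.all fun p => uc.all fun u => Nat.beq u.2 0 || !(fix p.1 u.1)) = true := by
  decide +kernel

end Cfsg.Agent.M22Outer
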