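import Cfsg.Agent.M22Outer.Defs

/-!
# Finite checks for the outer involutions of a group of type M(22): Sep
-/

set_option autoImplicit false
set_option Elab.async false

namespace Cfsg.Agent.M22Outer

open Cfsg.Agent.CosetCert Cfsg.Agent.CosetCert.Fi22U62 Cfsg.Agent.Fi22Out Cfsg.Agent.M22Local
open Cfsg.Agent.M22PairAut (bet sgp)
open Cfsg.Agent.M22O8 (inU pv uc e8)

theorem sep_ok : (sep.all fun e => e.2.2.all (fun p => fix2.any fun f => Nat.beq f.1 p) &&
    allFrom (fun q => !(e.2.2.all fun p => fix p q == fix p e.1) || Nat.beq q e.1 || Nat.beq q e.2.1) 0 3510 &&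
    e.2.2.all fun p => fix p e.2.1 == fix p e.1) = true := by decide +kernel

theorem gen_cover : (genPts.all fun x => (fix2.any fun f => Nat.beq f.1 x) ||
    sep.any fun e => Nat.beq e.1 x) = true := by decide +kernel

theorem nocommon_ok : (noCommon.all (fun p => fix2.any fun f => Nat.beq f.1 p) &&
    allFrom (fun q => !(noCommon.all fun p => fix p q)) 0 3510) = true := by decide +kernel

end Cfsg.Agent.M22Outer
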