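import Cfsg.Agent.M22Outer.Defs

/-!
# Finite checks for the outer involutions of a group of type M(22): Group
-/

set_option autoImplicit false
set_option Elab.async false

namespace Cfsg.Agent.M22Outer

open Cfsg.Agent.CosetCert Cfsg.Agent.CosetCert.Fi22U62 Cfsg.Agent.Fi22Out Cfsg.Agent.M22Local
open Cfsg.Agent.M22PairAut (bet sgp)
open Cfsg.Agent.M22O8 (inU pv uc e8)

theorem xs_ok : (Nat.beq xs.length 17 && xs.all fun w => w.all fun q => Nat.blt q 3510) = true := by
  decide +kernel

theorem rts_ok : ((rts.getD 0 []).all (fun r => r.isEmpty) &&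
    rts.all fun R => R.all fun r => r.all fun t => Nat.blt t 17) = true := by decide +kernel

theorem cj_ok : allFrom (fun l => allFrom (fun j => cjOk l j) 0 17) 0 17 = true := by decide +kernel

theorem gen_ok : allFrom genOk 0 17 = true := by decide +kernel

theorem sep_hi : allFrom sepHi 0 7 = true := by decide +kernel

theorem base_fix : (bpts.all (fun q => Nat.blt q 3510) &&
    allFrom (fun l => bpts.all fun q => Nat.beq (img (xw [l]).reverse q) q) 7 10) = true := by
  decide +kernel

end Cfsg.Agent.M22Outer
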